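import Groth.Agent.AbVar.K504.Inv
import Groth.Agent.OmegaSh.K583.DerFunct
import Groth.Agent.S5005
import Groth.Agent.S5023

/-!
# Partial derivations on `X ×_S X` (K159)

* `exists_partial`: a linear form `D : Ω_{X/S} ⟶ O_X` gives a derivation `E` of `O_{X × X}` with
  `E (p₁^# s) = p₁^# (D (ds))` and `E (p₂^# s) = 0`.
* `der_ext`: derivations of `O_{X × X}` are determined by their values on the functions `p₁^# s`, `p₂^# s`.
-/

set_option autoImplicit false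

universe u

open CategoryTheory CategoryTheory.Limits Opposite TopologicalSpace AlgebraicGeometry

namespace K159.PartA

open K504.GDMap K504.AltSh K504.Star K504.Inv K583.DerFunct

variable {X Y S : Scheme.{u}} {f : X ⟶ S}

theorem quasiSeparated_comp [QuasiSeparated f] (p1 p2 : Y ⟶ X) (H : IsPullback p1 p2 f f) :
    QuasiSeparated (p1 ≫ f) := by
  have : QuasiSeparated p1 := MorphismProperty.of_isPullback H.flip ‹QuasiSeparated f›
  infer_instance

section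

variable [QuasiSeparated f] (p1 p2 : Y ⟶ X) (H : IsPullback p1 p2 f f) [QuasiSeparated (p1 ≫ f)]

/-- the canonical map `p₁^* Ω ⟶ Ω_{X × X}` -/
noncomputable def c1 : (Scheme.Modules.pullback p1).obj (Omega.sheaf f) ⟶ Omega.sheaf (p1 ≫ f) :=
  diffMap (b := 𝟙 S) (Category.comp_id (p1 ≫ f)) (Groth.Agent.S5005.result f) (OmegaSh.dOmega (p1 ≫ f))

theorem hc1 : OmegaSh.IsDiffCompat p1 (OmegaSh.dOmega f) (OmegaSh.dOmega (p1 ≫ f)) (c1 (f := f) p1) :=
  isDiffCompat_diffMap _ _ _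

include H in
omit [QuasiSeparated f] [QuasiSeparated (p1 ≫ f)] in
theorem w2 : (p1 ≫ f) ≫ 𝟙 S = p2 ≫ f := (Category.comp_id _).trans H.w

/-- the canonical map `p₂^* Ω ⟶ Ω_{X × X}` -/
noncomputable def c2 : (Scheme.Modules.pullback p2).obj (Omega.sheaf f) ⟶ Omega.sheaf (p1 ≫ f) :=
  diffMap (b := 𝟙 S) (w2 p1 p2 H) (Groth.Agent.S5005.result f) (OmegaSh.dOmega (p1 ≫ f))

theorem hc2 : OmegaSh.IsDiffCompat p2 (OmegaSh.dOmega f) (OmegaSh.dOmega (p1 ≫ f)) (c2 p1 p2 H) :=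
  isDiffCompat_diffMap _ _ _

theorem isIso_desc : IsIso (coprod.desc (c1 (f := f) p1) (c2 p1 p2 H)) :=
  Groth.Agent.S5023.result f f p1 p2 (p1 ≫ f) rfl H.w.symm H _ _ (Groth.Agent.S5005.result f) _ _
    (Groth.Agent.S5005.result f) _ _ (Groth.Agent.S5005.result (p1 ≫ f)) _ (hc1 p1) _ (hc2 p1 p2 H)

include H in
theorem exists_partial_aux (D : Omega.sheaf f ⟶ Coh.structureModule X) :
    ∃ E : OmegaSh.Der (p1 ≫ f) (Coh.structureModule Y),
      (∀ (V : X.Opens) (x : Γ(X, V)), OmegaSh.fnSect Y (p1 ⁻¹ᵁ V) (E.app (p1 ⁻¹ᵁ V) (p1.app V x)) =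
        p1.app V (OmegaSh.fnSect X V (D.app V ((OmegaSh.dOmega f).app V x)))) ∧
      (∀ (V : X.Opens) (x : Γ(X, V)), E.app (p2 ⁻¹ᵁ V) (p2.app V x) = 0) := by
  have := isIso_desc p1 p2 H
  let v : (Scheme.Modules.pullback p1).obj (Omega.sheaf f) ⟶ Coh.structureModule Y :=
    adj p1 (D ≫ ClSub.unitToPush p1)
  let u : Omega.sheaf (p1 ≫ f) ⟶ Coh.structureModule Y :=
    inv (coprod.desc (c1 (f := f) p1) (c2 p1 p2 H)) ≫ coprod.desc v 0
  have hu1 : c1 (f := f) p1 ≫ u = v := by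
    calc c1 (f := f) p1 ≫ u = (coprod.inl ≫ coprod.desc (c1 (f := f) p1) (c2 p1 p2 H)) ≫ u := by
          rw [coprod.inl_desc]
      _ = v := by rw [Category.assoc, IsIso.hom_inv_id_assoc, coprod.inl_desc]
  have hu2 : c2 p1 p2 H ≫ u = 0 := by
    calc c2 p1 p2 H ≫ u = (coprod.inr ≫ coprod.desc (c1 (f := f) p1) (c2 p1 p2 H)) ≫ u := by
          rw [coprod.inr_desc]
      _ = 0 := by rw [Category.assoc, IsIso.hom_inv_id_assoc, coprod.inr_desc]
  refine ⟨(OmegaSh.dOmega (p1 ≫ f)).postcomp u.val, fun V x => ?_, fun V x => ?_⟩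
  · have h1 : OmegaSh.Der.app (F := Coh.structureModule Y) ((OmegaSh.dOmega (p1 ≫ f)).postcomp u.val)
        (p1 ⁻¹ᵁ V) (p1.app V x) =
        v.app (p1 ⁻¹ᵁ V) (OmegaSh.pullSect p1 (Omega.sheaf f) V ((OmegaSh.dOmega f).app V x)) := by
      rw [← hu1]
      exact congrArg (u.app (p1 ⁻¹ᵁ V)) (hc1 (f := f) p1 V x).symm
    rw [h1]
    exact congrArg (OmegaSh.fnSect Y (p1 ⁻¹ᵁ V)) (adj_pullSect p1 (D ≫ ClSub.unitToPush p1) V _)
  · have h1 : OmegaSh.Der.app (F := Coh.structureModule Y) ((OmegaSh.dOmega (p1 ≫ f)).postcomp u.val)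
        (p2 ⁻¹ᵁ V) (p2.app V x) =
        (c2 p1 p2 H ≫ u).app (p2 ⁻¹ᵁ V) (OmegaSh.pullSect p2 (Omega.sheaf f) V ((OmegaSh.dOmega f).app V x)) :=
      congrArg (u.app (p2 ⁻¹ᵁ V)) (hc2 p1 p2 H V x).symm
    rw [h1, hu2]
    rfl

include H in
theorem der_ext_aux (E E' : OmegaSh.Der (p1 ≫ f) (Coh.structureModule Y))
    (h1 : ∀ (V : X.Opens) (x : Γ(X, V)), E.app (p1 ⁻¹ᵁ V) (p1.app V x) = E'.app (p1 ⁻¹ᵁ V) (p1.app V x))
    (h2 : ∀ (V : X.Opens) (x : Γ(X, V)), E.app (p2 ⁻¹ᵁ V) (p2.app V x) = E'.app (p2 ⁻¹ᵁ V) (p2.app V x))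
    (W : Y.Opens) (y : Γ(Y, W)) : E.app W y = E'.app W y := by
  have := isIso_desc p1 p2 H
  have hY := Groth.Agent.S5005.result (p1 ≫ f)
  have hα : univLift hY E = univLift hY E' := by
    rw [← cancel_epi (coprod.desc (c1 (f := f) p1) (c2 p1 p2 H))]
    apply coprod.hom_ext
    · rw [coprod.inl_desc_assoc, coprod.inl_desc_assoc]
      refine eq_of_isDiffCompat (Groth.Agent.S5005.result f) (d' := E) (fun V x => ?_) (fun V x => ?_)
      · refine (congrArg ((univLift hY E).app (p1 ⁻¹ᵁ V)) (hc1 (f := f) p1 V x)).trans ?_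
        exact univLift_app hY E _ _
      · refine (congrArg ((univLift hY E').app (p1 ⁻¹ᵁ V)) (hc1 (f := f) p1 V x)).trans ?_
        exact (univLift_app hY E' _ _).trans (h1 V x).symm
    · rw [coprod.inr_desc_assoc, coprod.inr_desc_assoc]
      refine eq_of_isDiffCompat (Groth.Agent.S5005.result f) (d' := E) (fun V x => ?_) (fun V x => ?_)
      · refine (congrArg ((univLift hY E).app (p2 ⁻¹ᵁ V)) (hc2 p1 p2 H V x)).trans ?_
        exact univLift_app hY E _ _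
      · refine (congrArg ((univLift hY E').app (p2 ⁻¹ᵁ V)) (hc2 p1 p2 H V x)).trans ?_
        exact (univLift_app hY E' _ _).trans (h2 V x).symm
  rw [← univLift_app hY E, ← univLift_app hY E', hα]

end

theorem exists_partial [QuasiSeparated f] (p1 p2 : Y ⟶ X) (H : IsPullback p1 p2 f f)
    (D : Omega.sheaf f ⟶ Coh.structureModule X) :
    ∃ E : OmegaSh.Der (p1 ≫ f) (Coh.structureModule Y),
      co p1 ≫ (CohTop.push (X := Y.toTopCat) (Y := X.toTopCat) p1.base).map (dv E) =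
        dv ((OmegaSh.dOmega f).postcomp D.val) ≫ co p1 ∧
      co p2 ≫ (CohTop.push (X := Y.toTopCat) (Y := X.toTopCat) p2.base).map (dv E) = 0 := by
  have := quasiSeparated_comp p1 p2 H
  obtain ⟨E, hE1, hE2⟩ := exists_partial_aux p1 p2 H D
  exact ⟨E, hom_ext' fun V x => hE1 V.unop x, hom_ext' fun V x => hE2 V.unop x⟩

theorem der_ext [QuasiSeparated f] (p1 p2 : Y ⟶ X) (H : IsPullback p1 p2 f f)
    (E E' : OmegaSh.Der (p1 ≫ f) (Coh.structureModule Y))
    (h1 : co p1 ≫ (CohTop.push (X := Y.toTopCat) (Y := X.toTopCat) p1.base).map (dv E) =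
      co p1 ≫ (CohTop.push (X := Y.toTopCat) (Y := X.toTopCat) p1.base).map (dv E'))
    (h2 : co p2 ≫ (CohTop.push (X := Y.toTopCat) (Y := X.toTopCat) p2.base).map (dv E) =
      co p2 ≫ (CohTop.push (X := Y.toTopCat) (Y := X.toTopCat) p2.base).map (dv E')) : dv E = dv E' := by
  have := quasiSeparated_comp p1 p2 H
  refine hom_ext' fun W y => ?_
  refine der_ext_aux p1 p2 H E E' (fun V x => ?_) (fun V x => ?_) W.unop y
  · exact congrArg (fun φ => ap φ (op V) x) h1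
  · exact congrArg (fun φ => ap φ (op V) x) h2

end K159.PartA
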